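import Cfsg.Prelude.Def_Classical
import Cfsg.Agent.EqLemmas
import Cfsg.Agent.Lib.ChevLang.Fixed
import Cfsg.Agent.Lib.GLOrder.Symplectic
import Cfsg.Agent.Lib.Unitary.Center
import Mathlib.FieldTheory.Finite.Extension

/-!
# Elements of order 65 in some small groups over fields with 8 and 64 elements

`PSL₂(64)`, `PSp₄(8)`, `PSL₄(8)`, `PSU₄(8)`, `PSp₆(8)`: each has one, found by an eigenvalue of order 65.
-/

set_option autoImplicit false
set_option linter.style.haveILetI false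

namespace Cfsg.Agent.ESevenSixtyFive

open scoped Matrix

variable {n : Type*} [Fintype n] [DecidableEq n]

/-- Powers of a matrix with an eigenvector of eigenvalue `x` of order 65. -/
theorem dvd_of_eigen {F K : Type*} [Field F] [Fintype F] [Field K] (f : F →+* K) {M : Matrix n n F} {x : K}
    (hx : orderOf x = 65) (hco : Nat.Coprime 65 (Fintype.card F - 1)) {v : n → K} (hv : v ≠ 0)
    (he : (M.map f) *ᵥ v = x • v) {k : ℕ} {c : F} (hk : M ^ k = c • (1 : Matrix n n F)) : 65 ∣ k := by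
  have hp : ∀ j : ℕ, (M.map f) ^ j *ᵥ v = x ^ j • v := by
    intro j
    induction j with
    | zero => simp
    | succ j ih => rw [pow_succ, ← Matrix.mulVec_mulVec, he, Matrix.mulVec_smul, ih, smul_smul, ← pow_succ']
  have h1 : x ^ k • v = f c • v := by
    rw [← hp, show (M.map f) ^ k = (f c) • (1 : Matrix n n K) from ?_, Matrix.smul_mulVec, Matrix.one_mulVec]
    have := congrArg f.mapMatrix hk
    rw [map_pow] at this
    rw [show M.map f = f.mapMatrix M from rfl, this]
    ext i j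
    simp [RingHom.mapMatrix_apply, Matrix.one_apply, apply_ite f]
  obtain ⟨i, hi⟩ := Function.ne_iff.1 hv
  have hxc : x ^ k = f c := mul_right_cancel₀ hi (congrFun h1 i)
  have hx65 : x ^ 65 = 1 := hx ▸ pow_orderOf_eq_one x
  have hc : c ^ 65 = 1 := f.injective (by rw [map_pow, map_one, ← hxc, pow_right_comm, hx65, one_pow])
  have hc0 : c ≠ 0 := fun h0 => by rw [h0, zero_pow (by norm_num)] at hc; exact zero_ne_one hc
  have hc1 : c = 1 := by
    have h2 : c ^ Nat.gcd 65 (Fintype.card F - 1) = 1 :=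
      pow_gcd_eq_one.2 ⟨hc, FiniteField.pow_card_sub_one_eq_one c hc0⟩
    rwa [hco.gcd_eq_one, pow_one] at h2
  rw [← hx]
  exact orderOf_dvd_of_pow_eq_one (by rw [hxc, hc1, map_one])

/-- An element of order 65 in a quotient. -/
theorem exists_order {G : Type*} [Group G] [Finite G] (g : G) (N : Subgroup G) [N.Normal]
    (h : ∀ k, g ^ k ∈ N → 65 ∣ k) : ∃ w : G ⧸ N, orderOf w = 65 := by
  set w : G ⧸ N := QuotientGroup.mk g with hw
  have hd : 65 ∣ orderOf w := h _ ((QuotientGroup.eq_one_iff _).1 (by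
    rw [QuotientGroup.mk_pow]; exact pow_orderOf_eq_one w))
  obtain ⟨m, hm⟩ := hd
  have hpos := orderOf_pos w
  refine ⟨w ^ m, ?_⟩
  rw [orderOf_pow' w (by rintro rfl; omega), hm, Nat.gcd_mul_left_left, Nat.mul_div_cancel]
  exact Nat.pos_of_ne_zero (by rintro rfl; omega)

/-- An eigenvalue of order 65 over a field with 8 elements. -/
theorem exists_root_eight {F : Type*} [Field F] [Fintype F] (h8 : Fintype.card F = 8) :
    ∃ (K : Type) (_ : Field K) (_ : CharP K 2) (f : F →+* K) (s t : F) (x : K),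
      orderOf x = 65 ∧ f s * (x + x⁻¹) + f t ^ 2 = (x + x⁻¹) ^ 2 ∧ x ≠ 0 := by
  haveI : Fact (Nat.Prime 2) := ⟨Nat.prime_two⟩
  haveI : CharP F 2 := charP_of_card_eq_prime_pow (f := 3) (by rw [h8]; norm_num)
  haveI : Fact (Nat.Prime 2) := ⟨Nat.prime_two⟩
  let K := FiniteField.Extension F 2 4
  haveI : Fintype K := Fintype.ofFinite K
  haveI : CharP K 2 := charP_of_injective_algebraMap (algebraMap F K).injective 2
  have hK : Fintype.card K = 4096 := by
    rw [← Nat.card_eq_fintype_card, FiniteField.natCard_extension, Nat.card_eq_fintype_card, h8]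
    norm_num
  obtain ⟨u, hu⟩ : ∃ u : Kˣ, ∀ v : Kˣ, v ∈ Subgroup.zpowers u := IsCyclic.exists_generator
  have hu' : orderOf u = 4095 := by
    rw [orderOf_eq_card_of_forall_mem_zpowers hu, Nat.card_units, Nat.card_eq_fintype_card, hK]
  set x : K := ((u ^ 63 : Kˣ) : K) with hx
  have hx65 : orderOf x = 65 := by
    rw [hx, orderOf_units, orderOf_pow, hu']
    norm_num
  have hx0 : x ≠ 0 := Units.ne_zero _
  have hp : x ^ 65 = 1 := hx65 ▸ pow_orderOf_eq_one x
  have h64 : x ^ 64 = x⁻¹ := eq_inv_of_mul_eq_one_left (by rw [← pow_succ, hp])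
  set y := x + x⁻¹ with hy
  have hy64 : y ^ 64 = y := by
    rw [show (64 : ℕ) = 2 ^ 6 by norm_num, hy, add_pow_char_pow, inv_pow, show (2 : ℕ) ^ 6 = 64 by norm_num, h64,
      inv_inv, add_comm]
  have hfix : ∀ z : K, z ^ 8 = z → ∃ a : F, algebraMap F K a = z := fun z hz =>
    ChevLang.exists_eq_of_pow_card (by rw [h8]; exact hz)
  obtain ⟨s, hs⟩ := hfix (y + y ^ 8) (by
    conv_lhs => rw [show (8 : ℕ) = 2 ^ 3 by norm_num, add_pow_char_pow, show (2 : ℕ) ^ 3 = 8 by norm_num,
      ← pow_mul, hy64, add_comm])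
  obtain ⟨a, ha⟩ := hfix (y ^ 9) (by
    rw [← pow_mul, show 9 * 8 = 64 + 8 by norm_num, pow_add, hy64, ← pow_succ'])
  have ha8 : a ^ 8 = a := h8 ▸ FiniteField.pow_card a
  refine ⟨K, inferInstance, inferInstance, algebraMap F K, s, a ^ 4, x, hx65, ?_, hx0⟩
  rw [hs, map_pow, ← pow_mul, ← map_pow, ha8, ha, add_mul, ← pow_two, ← pow_succ, add_assoc,
    CharTwo.add_self_eq_zero, add_zero]

/-- The matrix `[[0, 1], [1, S]]`. -/
def blockMat {m : Type*} [DecidableEq m] {R : Type*} [CommRing R] (S : Matrix m m R) :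
    Matrix (m ⊕ m) (m ⊕ m) R :=
  Matrix.fromBlocks 0 1 1 S

theorem blockMat_mem {m : Type*} [Fintype m] [DecidableEq m] {F : Type*} [Field F] [CharP F 2]
    {S : Matrix m m F} (hS : Sᵀ = S) : blockMat S ∈ Matrix.symplecticGroup m F := by
  have hneg : ∀ A : Matrix m m F, -A = A := fun A => Matrix.ext fun i j => CharTwo.neg_eq (A i j)
  rw [SymplecticGroup.mem_iff, blockMat, Matrix.J, Matrix.fromBlocks_transpose, Matrix.fromBlocks_multiply,
    Matrix.fromBlocks_multiply]
  simp [hS, hneg, CharTwo.add_self_eq_zero, ← two_smul F S, CharTwo.two_eq_zero]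

theorem blockMat_eigen {m : Type*} [Fintype m] [DecidableEq m] {K : Type*} [Field K] [CharP K 2]
    (S : Matrix m m K) {x : K} (hx : x ≠ 0) {w : m → K} (hw : S *ᵥ w = (x + x⁻¹) • w) :
    blockMat S *ᵥ Sum.elim w (x • w) = x • Sum.elim w (x • w) := by
  rw [blockMat, Matrix.fromBlocks_mulVec]
  funext i
  rcases i with i | i
  · simp
  · simp only [Sum.elim_inr, Matrix.one_mulVec, Matrix.mulVec_smul, Pi.add_apply, Pi.smul_apply, smul_eq_mul,
      Function.comp_apply, Sum.elim_comp_inl, Sum.elim_comp_inr, hw]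
    have h2 : (2 : K) = 0 := CharTwo.two_eq_zero
    field_simp
    linear_combination (w i) * h2

/-- Two symmetric matrices with eigenvalue `x + x⁻¹`. -/
def symTwo {R : Type*} [CommRing R] (s t : R) : Matrix (Fin 2) (Fin 2) R := !![s, t; t, 0]

theorem symTwo_eigen {K : Type*} [Field K] {s t y : K} (h : s * y + t ^ 2 = y ^ 2) :
    symTwo s t *ᵥ ![y, t] = y • ![y, t] := by
  funext i
  fin_cases i <;> simp [symTwo, Matrix.mulVec, dotProduct, Fin.sum_univ_two] <;> first | ring1 | linear_combination h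

/-- A nonzero element `x + x⁻¹` for `x` of order 65. -/
theorem add_inv_ne_zero {K : Type*} [Field K] [CharP K 2] {x : K} (hx : orderOf x = 65) (hx0 : x ≠ 0) :
    x + x⁻¹ ≠ 0 := fun h1 => by
  have h2 : x * x = 1 := by
    have := CharTwo.add_eq_zero.1 h1
    nth_rewrite 1 [this]
    exact inv_mul_cancel₀ hx0
  have := Nat.le_of_dvd (by norm_num) (orderOf_dvd_of_pow_eq_one (show x ^ 2 = 1 by rw [pow_two, h2]))
  omega

/-- An eigenvalue of order 65 over a field with 64 elements. -/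
theorem exists_root_sixtyfour {F : Type*} [Field F] [Fintype F] (h64 : Fintype.card F = 64) :
    ∃ (K : Type) (_ : Field K) (_ : CharP K 2) (f : F →+* K) (e : F) (x : K),
      orderOf x = 65 ∧ f e = x + x⁻¹ ∧ x ≠ 0 := by
  haveI : Fact (Nat.Prime 2) := ⟨Nat.prime_two⟩
  haveI : CharP F 2 := charP_of_card_eq_prime_pow (f := 6) (by rw [h64]; norm_num)
  let K := FiniteField.Extension F 2 2
  haveI : Fintype K := Fintype.ofFinite K
  haveI : CharP K 2 := charP_of_injective_algebraMap (algebraMap F K).injective 2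
  have hK : Fintype.card K = 4096 := by
    rw [← Nat.card_eq_fintype_card, FiniteField.natCard_extension, Nat.card_eq_fintype_card, h64]
    norm_num
  obtain ⟨u, hu⟩ : ∃ u : Kˣ, ∀ v : Kˣ, v ∈ Subgroup.zpowers u := IsCyclic.exists_generator
  have hu' : orderOf u = 4095 := by
    rw [orderOf_eq_card_of_forall_mem_zpowers hu, Nat.card_units, Nat.card_eq_fintype_card, hK]
  set x : K := ((u ^ 63 : Kˣ) : K) with hx
  have hx65 : orderOf x = 65 := by
    rw [hx, orderOf_units, orderOf_pow, hu']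
    norm_num
  have hp : x ^ 65 = 1 := hx65 ▸ pow_orderOf_eq_one x
  have hi : x ^ 64 = x⁻¹ := eq_inv_of_mul_eq_one_left (by rw [← pow_succ, hp])
  have hy64 : (x + x⁻¹) ^ 64 = x + x⁻¹ := by
    rw [show (64 : ℕ) = 2 ^ 6 by norm_num, add_pow_char_pow, inv_pow, show (2 : ℕ) ^ 6 = 64 by norm_num, hi,
      inv_inv, add_comm]
  obtain ⟨e, he⟩ := ChevLang.exists_eq_of_pow_card (F := F) (z := x + x⁻¹) (by rw [h64]; exact hy64)
  exact ⟨K, inferInstance, inferInstance, algebraMap F K, e, x, hx65, he, Units.ne_zero _⟩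

/-- An element of relative trace one. -/
theorem exists_trace_one {F : Type*} [Field F] [Fintype F] (h64 : Fintype.card F = 64) :
    ∃ a : F, a ^ 8 = a + 1 := by
  haveI : Fact (Nat.Prime 2) := ⟨Nat.prime_two⟩
  haveI : CharP F 2 := charP_of_card_eq_prime_pow (f := 6) (by rw [h64]; norm_num)
  obtain ⟨u, hu⟩ : ∃ u : Fˣ, ∀ v : Fˣ, v ∈ Subgroup.zpowers u := IsCyclic.exists_generator
  have hu' : orderOf u = 63 := by
    rw [orderOf_eq_card_of_forall_mem_zpowers hu, Nat.card_units, Nat.card_eq_fintype_card, h64]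
  obtain ⟨z, hz⟩ : ∃ z : F, z = (u : F) := ⟨_, rfl⟩
  have hz0 : z ≠ 0 := hz ▸ u.ne_zero
  have hc : z ^ 8 + z ≠ 0 := fun h0 => by
    have h7 : z ^ 7 = 1 := mul_right_cancel₀ hz0 (by rw [← pow_succ, one_mul]; exact CharTwo.add_eq_zero.1 h0)
    have h1 : u ^ 7 = 1 := Units.ext (by simpa [hz] using h7)
    have := Nat.le_of_dvd (by norm_num) (orderOf_dvd_of_pow_eq_one h1)
    omega
  have hc8 : (z ^ 8 + z) ^ 8 = z ^ 8 + z := by
    rw [show (8 : ℕ) = 2 ^ 3 by norm_num, add_pow_char_pow, show (2 : ℕ) ^ 3 = 8 by norm_num, ← pow_mul,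
      show 8 * 8 = Fintype.card F by rw [h64], FiniteField.pow_card, add_comm]
  refine ⟨z / (z ^ 8 + z), ?_⟩
  rw [div_pow, hc8, div_eq_iff hc, add_mul, div_mul_cancel₀ _ hc, one_mul, add_comm (z ^ 8) z, ← add_assoc,
    CharTwo.add_self_eq_zero, zero_add]

section FourByFour

variable {R : Type*} [CommRing R]

/-- The symplectic element, in four coordinates. -/
def mFour (s t : R) : Matrix (Fin 4) (Fin 4) R := !![0, 0, 1, 0; 0, 0, 0, 1; 1, 0, s, t; 0, 1, t, 0]

/-- A change to an orthonormal basis. -/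
def pMat (a : R) : Matrix (Fin 4) (Fin 4) R := !![1, 0, 1, 0; 0, 1, 0, 1; a, 0, a + 1, 0; 0, a, 0, a + 1]

/-- Its inverse in characteristic two. -/
def qMat (a : R) : Matrix (Fin 4) (Fin 4) R := !![a + 1, 0, 1, 0; 0, a + 1, 0, 1; a, 0, 1, 0; 0, a, 0, 1]

/-- The alternating form in characteristic two. -/
def jFour : Matrix (Fin 4) (Fin 4) R := !![0, 0, 1, 0; 0, 0, 0, 1; 1, 0, 0, 0; 0, 1, 0, 0]

variable [CharP R 2]

theorem det_mFour (s t : R) : (mFour s t).det = 1 := by
  simp [mFour, Matrix.det_succ_row_zero, Fin.sum_univ_succ, Fin.succAbove]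

theorem pMat_mul_qMat (a : R) : pMat a * qMat a = 1 := by
  have h2 : (2 : R) = 0 := CharTwo.two_eq_zero
  ext i j
  fin_cases i <;> fin_cases j <;>
    simp [pMat, qMat, Matrix.mul_apply, Fin.sum_univ_four] <;>
    first
      | ring1
      | linear_combination a * h2
      | linear_combination h2
      | linear_combination (a + 1) * h2
      | linear_combination (a ^ 2 + a) * h2
      | linear_combination (a ^ 2 + a + 1) * h2

theorem qMat_mul_pMat (a : R) : qMat a * pMat a = 1 :=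
  mul_eq_one_comm.1 (pMat_mul_qMat a)

theorem mFour_map {L : Type*} [CommRing L] (f : R →+* L) (s t : R) :
    (mFour s t).map f = mFour (f s) (f t) := by
  ext i j
  fin_cases i <;> fin_cases j <;> simp [mFour]

omit [CharP R 2] in
theorem herm_aux (h g : Matrix (Fin 4) (Fin 4) R) (hg : hᵀ * g = 1) (u v : Fin 4 → R) :
    (h *ᵥ u) ⬝ᵥ (g *ᵥ v) = u ⬝ᵥ v := by
  rw [← Matrix.vecMul_transpose, ← Matrix.dotProduct_mulVec, Matrix.mulVec_mulVec, hg, Matrix.one_mulVec]

end FourByFour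

theorem mFour_eigen {K : Type*} [Field K] [CharP K 2] {s t x : K}
    (h : s * (x + x⁻¹) + t ^ 2 = (x + x⁻¹) ^ 2) (hx0 : x ≠ 0) :
    mFour s t *ᵥ ![x + x⁻¹, t, x * (x + x⁻¹), x * t] = x • ![x + x⁻¹, t, x * (x + x⁻¹), x * t] := by
  have h2 : (2 : K) = 0 := CharTwo.two_eq_zero
  obtain ⟨y, hy⟩ : ∃ y, y = x + x⁻¹ := ⟨_, rfl⟩
  have hxy : x * x = x * y + 1 := by
    rw [hy, mul_add, mul_inv_cancel₀ hx0, add_assoc, CharTwo.add_self_eq_zero, add_zero]
  rw [← hy] at h ⊢
  funext i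
  fin_cases i <;> simp [mFour, Matrix.mulVec, dotProduct, Fin.sum_univ_four] <;>
    first
      | ring1
      | linear_combination x * h - y * hxy
      | linear_combination -t * hxy
      | linear_combination t * hxy

theorem mFour_vec_ne {K : Type*} [Field K] [CharP K 2] {x : K} (hx : orderOf x = 65) (hx0 : x ≠ 0) (t : K) :
    (![x + x⁻¹, t, x * (x + x⁻¹), x * t] : Fin 4 → K) ≠ 0 :=
  fun h0 => add_inv_ne_zero hx hx0 (congrFun h0 0)

theorem herm_of_map {F : Type*} [Field F] [CharP F 2] (h : Matrix (Fin 4) (Fin 4) F)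
    (hh : hᵀ * h.map (fun z => z ^ 8) = 1) (u v : Fin 4 → F) :
    Cfsg.hermForm 4 F 8 (h *ᵥ u) (h *ᵥ v) = Cfsg.hermForm 4 F 8 u v := by
  haveI : Fact (Nat.Prime 2) := ⟨Nat.prime_two⟩
  haveI : ExpChar F 2 := ExpChar.prime Nat.prime_two
  have e : ∀ i, (h *ᵥ v) i ^ 8 = (h.map (fun z => z ^ 8) *ᵥ fun j => v j ^ 8) i := fun i => by
    simp only [Matrix.mulVec, dotProduct, Matrix.map_apply]
    rw [show (8 : ℕ) = 2 ^ 3 by norm_num, sum_pow_char_pow]
    exact Finset.sum_congr rfl fun j _ => mul_pow _ _ _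
  simp only [Cfsg.hermForm, e]
  exact herm_aux h _ hh u _

theorem unitary_conj {F : Type*} [Field F] [CharP F 2] {a s t : F} (ha : a ^ 8 = a + 1) (hs : s ^ 8 = s)
    (ht : t ^ 8 = t) :
    (qMat a * mFour s t * pMat a)ᵀ * (qMat a * mFour s t * pMat a).map (fun z => z ^ 8) = 1 := by
  haveI : Fact (Nat.Prime 2) := ⟨Nat.prime_two⟩
  haveI : ExpChar F 2 := ExpChar.prime Nat.prime_two
  have hφ : (fun z : F => z ^ 8) = iterateFrobenius F 2 3 := funext fun z => (iterateFrobenius_def 2 3 z).symm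
  have h2 : (2 : F) = 0 := CharTwo.two_eq_zero
  rw [hφ, Matrix.map_mul, Matrix.map_mul, ← hφ, Matrix.transpose_mul, Matrix.transpose_mul]
  have hM : (mFour s t).map (fun z => z ^ 8) = mFour s t := by
    ext i j; fin_cases i <;> fin_cases j <;> simp [mFour, hs, ht]
  have hQ : (qMat a)ᵀ * (qMat a).map (fun z => z ^ 8) = jFour := by
    ext i j
    fin_cases i <;> fin_cases j <;>
      simp [qMat, jFour, Matrix.mul_apply, Fin.sum_univ_four, ha, show (a + 1) ^ 8 = a from
        by rw [show (8 : ℕ) = 2 ^ 3 by norm_num, add_pow_char_pow, one_pow, show (2 : ℕ) ^ 3 = 8 by norm_num, ha,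
          add_assoc, CharTwo.add_self_eq_zero, add_zero]] <;>
      first
        | ring1
        | linear_combination a * h2
        | linear_combination h2
        | linear_combination (a + 1) * h2
        | linear_combination (a ^ 2 + a) * h2
        | linear_combination (a ^ 2 + a + 1) * h2
  have hMJ : (mFour s t)ᵀ * jFour * mFour s t = jFour := by
    ext i j
    fin_cases i <;> fin_cases j <;>
      simp [mFour, jFour, Matrix.mul_apply, Fin.sum_univ_four] <;>
      first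
        | ring1
        | linear_combination s * h2
        | linear_combination t * h2
        | linear_combination h2
  have hP : (pMat a)ᵀ * jFour * (pMat a).map (fun z => z ^ 8) = 1 := by
    ext i j
    fin_cases i <;> fin_cases j <;>
      simp [pMat, jFour, Matrix.mul_apply, Fin.sum_univ_four, ha, show (a + 1) ^ 8 = a from
        by rw [show (8 : ℕ) = 2 ^ 3 by norm_num, add_pow_char_pow, one_pow, show (2 : ℕ) ^ 3 = 8 by norm_num, ha,
          add_assoc, CharTwo.add_self_eq_zero, add_zero]] <;>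
      first
        | ring1
        | linear_combination a * h2
        | linear_combination h2
        | linear_combination (a + 1) * h2
        | linear_combination (a ^ 2 + a) * h2
        | linear_combination (a ^ 2 + a + 1) * h2
  rw [hM]
  calc (pMat a)ᵀ * ((mFour s t)ᵀ * (qMat a)ᵀ) * ((qMat a).map (fun z => z ^ 8) * mFour s t *
        (pMat a).map (fun z => z ^ 8))
      = (pMat a)ᵀ * ((mFour s t)ᵀ * ((qMat a)ᵀ * (qMat a).map (fun z => z ^ 8)) * mFour s t) *
        (pMat a).map (fun z => z ^ 8) := by simp only [Matrix.mul_assoc]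
    _ = 1 := by rw [hQ, hMJ, hP]

section Eight

variable {F₈ : Type*} [Field F₈] [Fintype F₈] (h8 : Fintype.card F₈ = 8)
include h8

theorem psp_two_order : ∃ w : Cfsg.PSp 2 F₈, orderOf w = 65 := by
  haveI : Fact (Nat.Prime 2) := ⟨Nat.prime_two⟩
  haveI : CharP F₈ 2 := charP_of_card_eq_prime_pow (f := 3) (by rw [h8]; norm_num)
  obtain ⟨K, _, _, f, s, t, x, hx, hst, hx0⟩ := exists_root_eight h8
  have hS : (symTwo s t)ᵀ = symTwo s t := by ext i j; fin_cases i <;> fin_cases j <;> rfl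
  refine exists_order ⟨blockMat (symTwo s t), blockMat_mem hS⟩ _ fun k hk => ?_
  have hbot : Subgroup.center (Matrix.symplecticGroup (Fin 2) F₈) = ⊥ := by
    rw [← Subgroup.card_eq_one, GLOrder.card_center_Sp (by norm_num), Nat.card_eq_fintype_card, h8]
    norm_num
  rw [hbot, Subgroup.mem_bot] at hk
  have hk' : blockMat (symTwo s t) ^ k = (1 : F₈) • 1 := by
    rw [one_smul]; exact congrArg Subtype.val hk
  have hv : (Sum.elim ![x + x⁻¹, f t] (x • ![x + x⁻¹, f t])) ≠ 0 := fun h0 =>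
    add_inv_ne_zero hx hx0 (congrFun h0 (Sum.inl 0))
  refine dvd_of_eigen f hx (by rw [h8]; norm_num) hv ?_ hk'
  rw [show (blockMat (symTwo s t)).map f = blockMat (symTwo (f s) (f t)) from ?_]
  · exact blockMat_eigen _ hx0 (symTwo_eigen hst)
  · rw [blockMat, Matrix.fromBlocks_map]
    simp [blockMat, symTwo, ← Matrix.ext_iff]

end Eight

section MoreEight

variable {F₈ : Type*} [Field F₈] [Fintype F₈] (h8 : Fintype.card F₈ = 8)
include h8

theorem psp_three_order : ∃ w : Cfsg.PSp 3 F₈, orderOf w = 65 := by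
  haveI : Fact (Nat.Prime 2) := ⟨Nat.prime_two⟩
  haveI : CharP F₈ 2 := charP_of_card_eq_prime_pow (f := 3) (by rw [h8]; norm_num)
  obtain ⟨K, _, _, f, s, t, x, hx, hst, hx0⟩ := exists_root_eight h8
  let S : Matrix (Fin 3) (Fin 3) F₈ := !![s, t, 0; t, 0, 0; 0, 0, 0]
  have hS : Sᵀ = S := by ext i j; fin_cases i <;> fin_cases j <;> rfl
  refine exists_order ⟨blockMat S, blockMat_mem hS⟩ _ fun k hk => ?_
  have hbot : Subgroup.center (Matrix.symplecticGroup (Fin 3) F₈) = ⊥ := by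
    rw [← Subgroup.card_eq_one, GLOrder.card_center_Sp (by norm_num), Nat.card_eq_fintype_card, h8]
    norm_num
  rw [hbot, Subgroup.mem_bot] at hk
  have hk' : blockMat S ^ k = (1 : F₈) • 1 := by
    rw [one_smul]; exact congrArg Subtype.val hk
  have hv : (Sum.elim ![x + x⁻¹, f t, 0] (x • ![x + x⁻¹, f t, 0])) ≠ 0 := fun h0 =>
    add_inv_ne_zero hx hx0 (congrFun h0 (Sum.inl 0))
  refine dvd_of_eigen f hx (by rw [h8]; norm_num) hv ?_ hk'
  rw [show (blockMat S).map f = blockMat !![f s, f t, 0; f t, 0, 0; 0, 0, 0] from ?_]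
  · refine blockMat_eigen _ hx0 ?_
    funext i
    fin_cases i <;> simp [Matrix.mulVec, dotProduct, Fin.sum_univ_three] <;> first | ring1 | linear_combination hst
  · rw [blockMat, Matrix.fromBlocks_map]
    simp [blockMat, S, ← Matrix.ext_iff, Fin.forall_fin_succ]

theorem psl_four_order : ∃ w : Matrix.ProjectiveSpecialLinearGroup (Fin 4) F₈, orderOf w = 65 := by
  haveI : Fact (Nat.Prime 2) := ⟨Nat.prime_two⟩
  haveI : CharP F₈ 2 := charP_of_card_eq_prime_pow (f := 3) (by rw [h8]; norm_num)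
  obtain ⟨K, _, _, f, s, t, x, hx, hst, hx0⟩ := exists_root_eight h8
  let g : Matrix.SpecialLinearGroup (Fin 4) F₈ := ⟨mFour s t, det_mFour s t⟩
  refine exists_order g (Subgroup.center (Matrix.SpecialLinearGroup (Fin 4) F₈)) fun k hk => ?_
  obtain ⟨c, -, hc⟩ := Matrix.SpecialLinearGroup.mem_center_iff.1 hk
  have hk' : mFour s t ^ k = c • 1 := by
    rw [Matrix.smul_one_eq_diagonal]; exact hc.symm
  refine dvd_of_eigen f hx (by rw [h8]; norm_num) (mFour_vec_ne hx hx0 (f t)) ?_ hk'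
  rw [mFour_map]
  exact mFour_eigen hst hx0

end MoreEight

section SixtyFour

variable {F₆₄ : Type*} [Field F₆₄] [Fintype F₆₄] (h64 : Fintype.card F₆₄ = 64)
include h64

theorem psl_two_order : ∃ w : Matrix.ProjectiveSpecialLinearGroup (Fin 2) F₆₄, orderOf w = 65 := by
  haveI : Fact (Nat.Prime 2) := ⟨Nat.prime_two⟩
  haveI : CharP F₆₄ 2 := charP_of_card_eq_prime_pow (f := 6) (by rw [h64]; norm_num)
  obtain ⟨K, _, _, f, e, x, hx, he, hx0⟩ := exists_root_sixtyfour h64
  have hdet : (!![0, 1; 1, e] : Matrix (Fin 2) (Fin 2) F₆₄).det = 1 := by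
    rw [Matrix.det_fin_two_of, zero_mul, one_mul, zero_sub, CharTwo.neg_eq]
  let g : Matrix.SpecialLinearGroup (Fin 2) F₆₄ := ⟨!![0, 1; 1, e], hdet⟩
  refine exists_order g (Subgroup.center (Matrix.SpecialLinearGroup (Fin 2) F₆₄)) fun k hk => ?_
  obtain ⟨c, -, hc⟩ := Matrix.SpecialLinearGroup.mem_center_iff.1 hk
  have hk' : (!![0, 1; 1, e] : Matrix (Fin 2) (Fin 2) F₆₄) ^ k = c • 1 := by
    rw [Matrix.smul_one_eq_diagonal]; exact hc.symm
  have hv : (![1, x] : Fin 2 → K) ≠ 0 := fun h0 => one_ne_zero (congrFun h0 0)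
  refine dvd_of_eigen f hx (by rw [h64]; norm_num) hv ?_ hk'
  have h2 : (2 : K) = 0 := CharTwo.two_eq_zero
  funext i
  fin_cases i <;> simp [Matrix.mulVec, dotProduct, Fin.sum_univ_two, he]
  field_simp
  linear_combination h2

theorem psu_four_order : ∃ w : Cfsg.PSU 4 F₆₄ 8, orderOf w = 65 := by
  haveI : Fact (Nat.Prime 2) := ⟨Nat.prime_two⟩
  haveI : CharP F₆₄ 2 := charP_of_card_eq_prime_pow (f := 6) (by rw [h64]; norm_num)
  haveI : ExpChar F₆₄ 2 := ExpChar.prime Nat.prime_two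
  obtain ⟨K, _, _, f, e, x, hx, he, hx0⟩ := exists_root_sixtyfour h64
  obtain ⟨a, ha⟩ := exists_trace_one h64
  have he64 : e ^ 64 = e := h64 ▸ FiniteField.pow_card e
  set s := e + e ^ 8 with hsdef
  set t := (e ^ 9) ^ 32 with htdef
  have hs : s ^ 8 = s := by
    rw [hsdef, show (8 : ℕ) = 2 ^ 3 by norm_num, add_pow_char_pow, show (2 : ℕ) ^ 3 = 8 by norm_num, ← pow_mul,
      he64, add_comm]
  have ht : t ^ 8 = t := by
    rw [htdef, ← pow_mul, mul_comm, pow_mul, show (e ^ 9) ^ 8 = e ^ 9 by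
      rw [← pow_mul, show 9 * 8 = 64 + 8 by norm_num, pow_add, he64, ← pow_succ']]
  have hst : f s * (x + x⁻¹) + f t ^ 2 = (x + x⁻¹) ^ 2 := by
    rw [← he, htdef, ← map_pow, ← map_mul, ← map_add, ← map_pow]
    congr 1
    rw [← pow_mul, ← pow_mul, show 9 * 32 * 2 = 64 * 9 by norm_num, pow_mul, he64, hsdef, add_mul, ← pow_two,
      ← pow_succ, add_assoc, CharTwo.add_self_eq_zero, add_zero]
  set h := qMat a * mFour s t * pMat a with hh
  have hu : ∀ u v : Fin 4 → F₆₄, Cfsg.hermForm 4 F₆₄ 8 (h *ᵥ u) (h *ᵥ v) = Cfsg.hermForm 4 F₆₄ 8 u v :=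
    herm_of_map h (unitary_conj ha hs ht)
  have hd : h.det = 1 := by
    rw [hh, Matrix.det_mul, Matrix.det_mul, det_mFour, mul_one, ← Matrix.det_mul, qMat_mul_pMat, Matrix.det_one]
  refine exists_order (⟨⟨h, hd⟩, hu⟩ : Cfsg.SU 4 F₆₄ 8) _ fun k hk => ?_
  have hbot : Subgroup.center (Cfsg.SU 4 F₆₄ 8) = ⊥ := by
    rw [← Subgroup.card_eq_one, Unitary.card_center_SU (by rw [h64]; norm_num) (by norm_num)]
    norm_num
  rw [hbot, Subgroup.mem_bot] at hk
  have hk' : h ^ k = (1 : F₆₄) • 1 := by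
    rw [one_smul]
    exact congrArg (fun g : ↥(Cfsg.SU 4 F₆₄ 8) => g.1.1) hk
  set v := ![x + x⁻¹, f t, x * (x + x⁻¹), x * f t] with hv
  have hPQ : (pMat a).map f * (qMat a).map f = 1 := by
    rw [← Matrix.map_mul, pMat_mul_qMat, Matrix.map_one f (map_zero f) (map_one f)]
  refine dvd_of_eigen f hx (by rw [h64]; norm_num) (v := (qMat a).map f *ᵥ v) (fun h0 => ?_) ?_ hk'
  · have h1 := congrArg (fun w => (pMat a).map f *ᵥ w) h0
    simp only [Matrix.mulVec_mulVec, hPQ, Matrix.one_mulVec, Matrix.mulVec_zero] at h1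
    exact mFour_vec_ne hx hx0 (f t) h1
  · rw [hh, Matrix.map_mul, Matrix.map_mul, Matrix.mulVec_mulVec, Matrix.mul_assoc, Matrix.mul_assoc, hPQ,
      Matrix.mul_one, ← Matrix.mulVec_mulVec, mFour_map, mFour_eigen hst hx0, Matrix.mulVec_smul]

end SixtyFour

end Cfsg.Agent.ESevenSixtyFive
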