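import Cfsg.Agent.Lib.ESevenSixtyFive.Words
import Cfsg.Agent.Lib.ChevOrder.Final
import Mathlib.GroupTheory.Nilpotent

/-!
# The Chevalley group of type E7 over two elements has no element of order 65

`exists_conj_abelian`: an abelian subgroup containing a Sylow subgroup of an overgroup.
`no_order_sixty_five`: the theorem.
-/

set_option autoImplicit false
set_option maxRecDepth 100000
set_option linter.style.haveILetI false

namespace Cfsg.Agent.ESevenSixtyFive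

open Cfsg.Lie Cfsg.Lie.ChevalleyDatum Cfsg.Agent.Chev Cfsg.Agent.ChevBN Cfsg.Agent.ChevFixed
  Cfsg.Agent.ChevLang Cfsg.Agent.ToralSection
open Cfsg.Agent.ChevOrder (act torusHom chi)
open scoped Matrix

/-- If the `r`-elements normalising the `r`-part of an abelian subgroup `T ≤ X` lie in `T`, then every `r`-element
of `X` is conjugate into `T` in `X`. -/
theorem exists_conj_abelian {G : Type*} [Group G] [Finite G] (r : ℕ) [hr : Fact r.Prime] {T X : Subgroup G}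
    (hTX : T ≤ X) (hab : ∀ a ∈ T, ∀ b ∈ T, a * b = b * a)
    (h : ∀ g ∈ X, (∃ k : ℕ, g ^ r ^ k = 1) →
      (∀ t ∈ T, (∃ k : ℕ, t ^ r ^ k = 1) → g * t * g⁻¹ ∈ T) → g ∈ T)
    {z : G} (hzX : z ∈ X) (hz : ∃ k : ℕ, z ^ r ^ k = 1) : ∃ x ∈ X, x * z * x⁻¹ ∈ T := by
  let S : Subgroup X :=
    { carrier := {t | (t : G) ∈ T ∧ ∃ k : ℕ, t ^ r ^ k = 1}
      one_mem' := ⟨one_mem T, 0, one_pow _⟩
      mul_mem' := by
        rintro a b ⟨ha, k, hk⟩ ⟨hb, m, hm⟩
        refine ⟨mul_mem ha hb, k + m, ?_⟩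
        have hc : Commute a b := Subtype.ext (hab _ ha _ hb)
        rw [hc.mul_pow]
        nth_rewrite 1 [pow_add r k m]
        rw [pow_mul, hk, one_pow, pow_add, mul_comm, pow_mul, hm, one_pow, one_mul]
      inv_mem' := by
        rintro a ⟨ha, k, hk⟩
        exact ⟨inv_mem ha, k, by rw [inv_pow, hk, inv_one]⟩ }
  have hS : IsPGroup r S := fun t => by
    obtain ⟨k, hk⟩ := t.2.2
    exact ⟨k, Subtype.ext (by simpa using hk)⟩
  obtain ⟨Q, hSQ⟩ := hS.exists_le_sylow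
  have hQS : (Q : Subgroup X) ≤ S := by
    by_contra hne
    haveI : Group.IsNilpotent Q := Q.isPGroup'.isNilpotent
    have hlt : S.subgroupOf (Q : Subgroup X) < ⊤ :=
      lt_top_iff_ne_top.2 fun e => hne (Subgroup.subgroupOf_eq_top.1 e)
    obtain ⟨g, hgN, hgS⟩ := SetLike.exists_of_lt (Group.normalizerCondition_of_isNilpotent _ hlt)
    obtain ⟨k, hk⟩ := Q.isPGroup' g
    have hk' : (g : X) ^ r ^ k = 1 := by
      have := congrArg Subtype.val hk
      simpa using this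
    refine hgS (Subgroup.mem_subgroupOf.2 ⟨?_, k, hk'⟩)
    refine h _ (g : X).2 ⟨k, by have := congrArg Subtype.val hk'; simpa using this⟩ fun t ht ⟨m, hm⟩ => ?_
    have htS : (⟨t, hTX ht⟩ : X) ∈ S := ⟨ht, m, Subtype.ext (by simpa using hm)⟩
    have := (Subgroup.mem_normalizer_iff.1 hgN ⟨⟨t, hTX ht⟩, hSQ htS⟩).1 (Subgroup.mem_subgroupOf.2 htS)
    exact (Subgroup.mem_subgroupOf.1 this).1
  obtain ⟨k, hk⟩ := hz
  have hZ : IsPGroup r (Subgroup.zpowers (⟨z, hzX⟩ : X)) := by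
    rintro ⟨w, hw⟩
    obtain ⟨i, rfl⟩ := Subgroup.mem_zpowers_iff.1 hw
    refine ⟨k, Subtype.ext ?_⟩
    have e : (⟨z, hzX⟩ : X) ^ r ^ k = 1 := Subtype.ext (by simpa using hk)
    show ((⟨z, hzX⟩ : X) ^ i) ^ r ^ k = 1
    rw [← zpow_natCast, zpow_comm, zpow_natCast, e, one_zpow]
  obtain ⟨R, hR⟩ := hZ.exists_le_sylow
  obtain ⟨c, hc⟩ := MulAction.exists_smul_eq X R Q
  have h1 : MulAut.conj c ⟨z, hzX⟩ ∈ ((c • R : Sylow r X) : Subgroup X) :=
    ⟨⟨z, hzX⟩, hR (Subgroup.mem_zpowers _), rfl⟩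
  rw [hc] at h1
  exact ⟨c, c.2, (hQS h1).1⟩

/-- The word of an element of order 12 of the Weyl group. -/
def wordTwelve : List (Fin 7) := [5, 3, 4, 2, 1, 0]

theorem twelve_ok : ∀ i, (13 : ℤ) ∣ ((2 : ℤ) • wmat wordTwelve *ᵥ vec vThirteen - vec vThirteen) i := by
  decide +kernel

theorem rho_regular : ∀ r : Fin 126, ¬ (125 : ℤ) ∣ ∑ i : Fin 7, vec uRho i * D7.cartan i.val r.val := by
  decide +kernel

section Torus

variable {K : Type*} [Field K]

theorem act_zpow_vec (A : Matrix (Fin 7) (Fin 7) ℤ) (z : Kˣ) (v : Fin 7 → ℤ) :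
    act A (fun i => z ^ v i) = fun j => z ^ (A *ᵥ v) j := by
  funext j
  rw [ChevOrder.act_apply]
  simp only [← zpow_mul]
  rw [← ChevOrder.zpow_sum']
  exact congrArg _ (Finset.sum_congr rfl fun i _ => mul_comm _ _)

/-- The torus of type E7. -/
noncomputable def tHom (K : Type*) [Field K] : (Fin 7 → Kˣ) →* GL D7.Idx K := torusHom D7 K

/-- The torus of type E7, into the group. -/
noncomputable def tGrp (hD : Good D7) (K : Type*) [Field K] : (Fin 7 → Kˣ) →* ↥(D7.group K) :=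
  torus hD rootsE7 K

theorem mapG_tHom (hD : Good D7) {L : Type*} [Field L] (f : K →+* L) (c : Fin 7 → Kˣ) :
    mapG D7 f (tHom K c) = tHom L (fun i => Units.map f.toMonoidHom (c i)) :=
  mapG_torusHom hD f c

theorem coe_tGrp (hD : Good D7) (c : Fin 7 → Kˣ) : (tGrp hD K c : GL D7.Idx K) = tHom K c := rfl

theorem nw_conj_tHom (hD : Good D7) (l : List (Fin 7)) (c : Fin 7 → Kˣ) :
    (chevRGD hD rootsE7 K).nw l * tHom K c * ((chevRGD hD rootsE7 K).nw l)⁻¹ = tHom K (act (wmat l) c) :=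
  nw_conj_torusHom hD rootsE7 l (wmat l)
    (fun i r hr => (Finset.sum_congr rfl fun j _ => congrArg (· * _) (wmat_apply l j i)).trans
      (colV_spec hD rootsE7 l i hr)) c

theorem torusHom_eq_one (hD : Good D7) [CharP K 2] {c : Fin 7 → Kˣ} (h : tHom K c = 1) : c = 1 := by
  funext i
  have h2 : ((c i : Kˣ) : K) ^ 2 = 1 := by
    have := congrArg Units.val (exists_chi_one hD rootsE7 h i)
    simpa using this
  refine Units.ext ?_
  have : ((c i : K) + 1) ^ 2 = 0 := by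
    rw [add_pow_two, h2, one_pow]
    have h0 : (2 : K) = 0 := CharTwo.two_eq_zero
    linear_combination (1 + (c i : K)) * h0
  rw [Pi.one_apply, Units.val_one]
  have h3 := eq_neg_of_add_eq_zero_left (pow_eq_zero_iff (by norm_num) |>.1 this)
  rwa [CharTwo.neg_eq] at h3

theorem chi_zpow_vec (z : Kˣ) (v : Fin 7 → ℤ) (r : ℕ) :
    chi (D := D7) (fun i => z ^ v i) r = z ^ ∑ i : Fin 7, v i * D7.cartan i.val r := by
  show (∏ i : Fin 7, (z ^ v i) ^ D7.cartan i.val r) = _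
  rw [ChevOrder.zpow_sum']
  exact Finset.prod_congr rfl fun i _ => (zpow_mul _ _ _).symm

/-- An element centralising the regular element of order 125 is in the torus. -/
theorem mem_range_of_comm_rho (hD : Good D7) [Finite K] (z : Kˣ) (hz : ∀ n : ℤ, z ^ n = 1 ↔ (125 : ℤ) ∣ n)
    {u : ↥(D7.group K)} (hu : u * tGrp hD K (fun i => z ^ vec uRho i) = tGrp hD K (fun i => z ^ vec uRho i) * u) :
    u ∈ (tGrp hD K).range := by
  obtain ⟨cc, hcc⟩ : ∃ cc : Fin D7.rank → Kˣ, cc = fun i => z ^ vec uRho i := ⟨_, rfl⟩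
  have hchi : ∀ r, chi cc r = z ^ ∑ i : Fin 7, vec uRho i * D7.cartan i.val r := fun r => by
    rw [hcc]
    exact chi_zpow_vec z _ r
  have hdiag : (u : GL D7.Idx K) ∈ D7.diagonalSubgroup K := by
    refine mem_diagonal_of_regular hD rootsE7 (h := torusHom D7 K cc)
      ((ChevOrder.torusHom_range (F := K) hD).le ⟨cc, rfl⟩) (ChevOrder.coe_torusHom cc) ?_ ?_ u.2 ?_
    · intro r hr h1
      rw [hchi, hz] at h1
      exact rho_regular ⟨r, hr⟩ h1
    · intro w hw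
      refine word_trivial hD rootsE7 w fun r hr => ?_
      have e1 := hw r hr
      rw [hchi, hchi] at e1
      rw [← hz, zpow_sub, e1, mul_inv_cancel]
    · rw [hcc]
      exact congrArg Subtype.val hu
  obtain ⟨d, hd⟩ := (ChevOrder.torusHom_range (F := K) hD).ge hdiag
  exact ⟨d, Subtype.ext hd⟩

end Torus

/-- `E7(2)` has no element of order 65. -/
theorem no_order_sixty_five (x : ↥(chevE7.group (ZMod 2))) : orderOf x ≠ 65 := by
  classical
  intro hx
  have hD : Good D7 := Chev.good_of_mem (by simp)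
  let Kb := AlgebraicClosure (ZMod 2)
  haveI : CharP Kb 2 := charP_of_injective_algebraMap (algebraMap (ZMod 2) Kb).injective 2
  haveI : ExpChar Kb 2 := ExpChar.prime Nat.prime_two
  let σ : Kb →+* Kb := frobenius Kb 2
  have hσ : ∀ z, σ z = z ^ 2 := fun z => frobenius_def 2 z
  -- the twisted torus
  obtain ⟨g, hgG, hg⟩ := exists_lang hD le_rfl (show 2 = 2 ^ 1 by norm_num) σ hσ
    (show (chevRGD hD rootsE7 Kb).nw wordTwelve ∈ D7.group Kb by
      rw [← chev_G hD rootsE7]; exact (chevRGD hD rootsE7 Kb).N_le_G ((chevRGD hD rootsE7 Kb).nw_mem_N _))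
  obtain ⟨ζb, hζb⟩ : ∃ ζ : Kb, IsPrimitiveRoot ζ 1625 := by
    haveI : NeZero ((1625 : ℕ) : Kb) := ⟨fun h0 => by
      have := (CharP.cast_eq_zero_iff Kb 2 1625).1 h0
      omega⟩
    obtain ⟨z, hz⟩ := IsAlgClosed.exists_root (Polynomial.cyclotomic 1625 Kb)
      (Polynomial.degree_cyclotomic_pos 1625 Kb (by norm_num)).ne'
    exact ⟨z, Polynomial.isRoot_cyclotomic_iff.1 hz⟩
  obtain ⟨L₁, hL₁, hg1⟩ := exists_defined (F := ZMod 2) hD hgG
  obtain ⟨L₂, hL₂, hζ2⟩ := exists_subfield (F := ZMod 2) {ζb}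
  let K := ↥(L₁ ⊔ L₂)
  haveI : FiniteDimensional (ZMod 2) K := IntermediateField.finiteDimensional_sup L₁ L₂
  haveI : Finite K := Module.finite_of_finite (ZMod 2)
  haveI : CharP K 2 := charP_of_injective_algebraMap (algebraMap (ZMod 2) K).injective 2
  haveI : ExpChar K 2 := ExpChar.prime Nat.prime_two
  obtain ⟨gL, hgL, hgLe⟩ := map_group_mono hD (le_sup_left : L₁ ≤ L₁ ⊔ L₂) hg1
  set e := algebraMap K Kb with he
  let ζK : K := ⟨ζb, (le_sup_right : L₂ ≤ L₁ ⊔ L₂) (hζ2 _ (Finset.mem_singleton_self _))⟩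
  have hζK : IsPrimitiveRoot ζK 1625 := IsPrimitiveRoot.of_map_of_injective (f := e) (by exact hζb) e.injective
  let ζ : Kˣ := (hζK.isUnit (by norm_num)).unit
  have hζ : IsPrimitiveRoot ζ 1625 := IsPrimitiveRoot.coe_units_iff.1 hζK
  have hdvd : ∀ k : ℤ, ζ ^ k = 1 ↔ (1625 : ℤ) ∣ k := hζ.zpow_eq_one_iff_dvd
  -- the element of order 13
  let c : Fin 7 → Kˣ := fun i => (ζ ^ (125 : ℤ)) ^ vec vThirteen i
  have hc13 : ∀ k : Fin 7 → ℤ, ((fun i => (ζ ^ (125 : ℤ)) ^ k i) = (1 : Fin 7 → Kˣ)) ↔ ∀ i, (13 : ℤ) ∣ k i := by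
    intro k
    rw [funext_iff]
    refine forall_congr' fun i => ?_
    rw [Pi.one_apply, ← zpow_mul, hdvd, show (1625 : ℤ) = 125 * 13 by norm_num,
      mul_dvd_mul_iff_left (by norm_num : (125 : ℤ) ≠ 0)]
  have hact : ∀ (A : Matrix (Fin 7) (Fin 7) ℤ) (k : ℤ), act A c = c ^ k ↔
      ∀ i, (13 : ℤ) ∣ (A *ᵥ vec vThirteen - k • vec vThirteen) i := by
    intro A k
    rw [← hc13, ← mul_inv_eq_one, act_zpow_vec]
    have e2 : ((fun i => (ζ ^ (125 : ℤ)) ^ (A *ᵥ vec vThirteen) i) * (c ^ k)⁻¹ : Fin 7 → Kˣ) =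
        fun i => (ζ ^ (125 : ℤ)) ^ (A *ᵥ vec vThirteen - k • vec vThirteen) i := by
      funext i
      simp only [c, Pi.mul_apply, Pi.inv_apply, Pi.pow_apply, Pi.sub_apply, Pi.smul_apply, smul_eq_mul, ← zpow_mul]
      rw [← zpow_neg, ← zpow_add]
      congr 1
      ring
    rw [e2]
  have hcpow : c ^ 13 = 1 := by
    funext i
    show ((ζ ^ (125 : ℤ)) ^ vec vThirteen i) ^ 13 = 1
    rw [← zpow_natCast, ← zpow_mul, ← zpow_mul, hdvd]
    exact ⟨vec vThirteen i, by push_cast; ring⟩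
  have hc1 : c ≠ 1 := fun h0 => by
    have := (hc13 _).1 h0 1
    revert this
    decide +kernel
  have hfix : act (wmat wordTwelve) (c ^ (2 : ℤ)) = c := by
    rw [← act_smul_sub_one (k := (2 : ℤ))]
    show act ((2 : ℤ) • wmat wordTwelve - 1) c = 1
    rw [act_zpow_vec, hc13]
    intro i
    rw [Matrix.sub_mulVec, Matrix.one_mulVec, Matrix.smul_mulVec]
    exact twelve_ok i
  set yb := g * tHom Kb (fun i => Units.map e.toMonoidHom (c i)) * g⁻¹ with hyb
  have hybe : mapG D7 e (gL * tHom K c * gL⁻¹) = yb := by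
    rw [map_mul, map_mul, map_inv, hgLe, mapG_tHom hD, hyb]
  have hybσ : mapG D7 σ yb = yb := by
    have e2 : mapG D7 σ (tHom Kb (fun i => Units.map e.toMonoidHom (c i))) =
        tHom Kb (fun i => Units.map e.toMonoidHom ((c ^ (2 : ℤ)) i)) := by
      rw [mapG_tHom hD]
      exact congrArg _ (funext fun i => Units.ext (by simp [hσ]))
    have e3 := nw_conj_tHom hD (K := Kb) wordTwelve
      (fun i => Units.map e.toMonoidHom ((c ^ (2 : ℤ)) i))
    have e4 : act (wmat wordTwelve) (fun i => Units.map e.toMonoidHom ((c ^ (2 : ℤ)) i)) =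
        fun i => Units.map e.toMonoidHom (c i) := by
      funext j
      rw [ChevOrder.act_apply]
      conv_rhs => rw [← congrFun hfix j, ChevOrder.act_apply, map_prod]
      exact Finset.prod_congr rfl fun i _ => (map_zpow _ _ _).symm
    rw [e4] at e3
    rw [hyb, map_mul, map_mul, map_inv, hg, e2, ← e3]
    group
  have hybG : yb ∈ D7.group Kb := by
    rw [hyb]
    exact mul_mem (mul_mem hgG (borel_le_group hD rootsE7 (Subgroup.mem_sup_right
      ((ChevOrder.torusHom_range (F := Kb) hD).le ⟨_, rfl⟩)))) (inv_mem hgG)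
  have hyb13 : yb ^ 13 = 1 := by
    rw [← hybe, ← map_pow, conj_pow, ← map_pow, hcpow, map_one, mul_one, mul_inv_cancel, map_one]
  obtain ⟨y₁, hy₁, hy₁e⟩ := mem_image_of_pow (F := ZMod 2) hD rootsE7 σ (fun z => by rw [hσ]; simp) hybG hybσ
    hyb13 (by decide)
  set f := algebraMap (ZMod 2) K with hf
  let κ : ↥(D7.group (ZMod 2)) →* ↥(D7.group K) :=
    ((mapG D7 f).comp (D7.group (ZMod 2)).subtype).codRestrict _ fun w => mapG_group_le hD f ⟨w.1, w.2, rfl⟩
  have hκ : Function.Injective κ := fun a b h => Subtype.ext (mapG_injective f (congrArg Subtype.val h))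
  let τ := tGrp hD K
  let gK : ↥(D7.group K) := ⟨gL, hgL⟩
  let y₀ : ↥(D7.group (ZMod 2)) := ⟨y₁, hy₁⟩
  have hy₀ : κ y₀ = gK * τ c * gK⁻¹ := by
    apply Subtype.ext
    apply mapG_injective e
    show mapG D7 e (mapG D7 f y₁) = mapG D7 e (gL * tHom K c * gL⁻¹)
    rw [mapG_comp, hybe, ← hy₁e]
    congr 2
  have hτ : Function.Injective τ := fun a b h => by
    have h' : tHom K a = tHom K b := congrArg Subtype.val h
    exact mul_inv_eq_one.1 (torusHom_eq_one hD (by rw [map_mul, map_inv, h', mul_inv_cancel]))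
  -- the Sylow subgroup of order 13
  haveI : Fact (Nat.Prime 13) := ⟨by norm_num⟩
  haveI : Fact (Nat.Prime 5) := ⟨by norm_num⟩
  have hy13 : orderOf y₀ = 13 := by
    refine orderOf_eq_prime (hκ ?_) fun h1 => hc1 (hτ ?_)
    · rw [map_pow, hy₀, map_one, conj_pow, ← map_pow, hcpow, map_one, mul_one, mul_inv_cancel]
    · rw [h1, map_one] at hy₀
      rw [map_one]
      exact conj_eq_one_iff.1 hy₀.symm
  haveI : Finite ↥(D7.group (ZMod 2)) := inferInstance
  have hfac : (Nat.card ↥(D7.group (ZMod 2))).factorization 13 = 1 := by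
    have h := ChevOrder.card_E7 (F := ZMod 2) (q := 2) (ZMod.card 2) hD
    rw [show Nat.gcd 2 (2 - 1) = 1 by norm_num, one_mul] at h
    rw [show Nat.card ↥(D7.group (ZMod 2)) = _ from h]
    rw [show 2 ^ 63 * (2 ^ 2 - 1) * (2 ^ 6 - 1) * (2 ^ 8 - 1) * (2 ^ 10 - 1) * (2 ^ 12 - 1) * (2 ^ 14 - 1) *
      (2 ^ 18 - 1) = 13 * (2 ^ 63 * (3 * 63 * 255 * 1023 * 315 * 16383 * 262143)) by norm_num,
      Nat.factorization_mul (by norm_num) (by norm_num), Finsupp.add_apply,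
      Nat.Prime.factorization_self (by norm_num), Nat.factorization_eq_zero_of_not_dvd (by norm_num)]
  have hx5 : orderOf (x ^ 5) = 13 := by
    rw [orderOf_pow' x (by norm_num : (5 : ℕ) ≠ 0), hx]
    norm_num
  have hcard : ∀ w : ↥(D7.group (ZMod 2)), orderOf w = 13 → Nat.card ↥(Subgroup.zpowers w) =
      13 ^ (Nat.card ↥(D7.group (ZMod 2))).factorization 13 := fun w hw => by
    rw [Nat.card_zpowers, hw, hfac, pow_one]
  obtain ⟨a, ha⟩ := MulAction.exists_smul_eq ↥(D7.group (ZMod 2))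
    (Sylow.ofCard _ (hcard _ hx5)) (Sylow.ofCard _ (hcard _ hy13))
  have hmapz : (Subgroup.zpowers (x ^ 5)).map (MulAut.conj a).toMonoidHom = Subgroup.zpowers y₀ :=
    congrArg (fun P : Sylow 13 ↥(D7.group (ZMod 2)) => (P : Subgroup ↥(D7.group (ZMod 2)))) ha
  rw [MonoidHom.map_zpowers] at hmapz
  set x' := a * x * a⁻¹ with hx'
  have hx'5 : (MulAut.conj a).toMonoidHom (x ^ 5) = x' ^ 5 := by
    rw [hx', conj_pow]
    rfl
  rw [hx'5] at hmapz
  obtain ⟨k, hk⟩ := Subgroup.mem_zpowers_iff.1 (hmapz ▸ Subgroup.mem_zpowers (x' ^ 5))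
  obtain ⟨m, hm⟩ := Subgroup.mem_zpowers_iff.1 (hmapz.symm ▸ Subgroup.mem_zpowers y₀)
  -- moving the 5-part into the torus
  set z := gK⁻¹ * κ x' * gK with hz
  have hzconj : ∀ w : ↥(D7.group (ZMod 2)), gK⁻¹ * κ w * gK = (MulAut.conj gK⁻¹).toMonoidHom (κ w) := fun w => by
    simp
  have hz5 : z ^ 5 = τ (c ^ k) := by
    rw [hz, hzconj, ← map_pow, ← map_pow, ← hk, ← hzconj, map_zpow, hy₀, conj_zpow, map_zpow]
    group
  have hzc : z ^ 5 = τ c ^ k := by rw [hz5, map_zpow]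
  have hτc : τ c = (z ^ 5) ^ m := by
    rw [hz, hzconj, ← map_pow, ← map_zpow, ← map_pow, ← map_zpow, hm, ← hzconj, hy₀]
    group
  set X := Subgroup.centralizer ({τ c} : Set ↥(D7.group K)) with hXdef
  have hTX : τ.range ≤ X := by
    rintro _ ⟨d, rfl⟩
    rw [hXdef, Subgroup.mem_centralizer_singleton_iff, ← map_mul, ← map_mul, mul_comm]
  have hzX : z ∈ X := by
    rw [hXdef, Subgroup.mem_centralizer_singleton_iff, hτc]
    exact ((Commute.refl z).pow_right 5).zpow_right m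
  have hz13 : (z ^ 13) ^ 5 ^ 1 = 1 := by
    rw [← pow_mul, hz, hzconj, ← map_pow, ← map_pow, hx', conj_pow,
      show 13 * 5 ^ 1 = orderOf x by rw [hx]; norm_num, pow_orderOf_eq_one]
    simp
  let creg : Fin 7 → Kˣ := fun i => (ζ ^ (13 : ℤ)) ^ vec uRho i
  have hcreg : creg ^ 5 ^ 3 = 1 := by
    funext i
    show ((ζ ^ (13 : ℤ)) ^ vec uRho i) ^ (5 ^ 3) = 1
    rw [← zpow_natCast, ← zpow_mul, ← zpow_mul, hdvd]
    exact ⟨vec uRho i, by push_cast; ring⟩
  haveI : Finite ↥(D7.group K) := inferInstance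
  have hN : ∀ u ∈ X, (∃ j : ℕ, u ^ 5 ^ j = 1) →
      (∀ t ∈ τ.range, (∃ j : ℕ, t ^ 5 ^ j = 1) → u * t * u⁻¹ ∈ τ.range) → u ∈ τ.range := by
    rintro u huX ⟨j, hj⟩ hu
    obtain ⟨A, ⟨l, hl⟩, hA'⟩ := fusion_chev hD rootsE7 K u
    have hA : ∀ d, u * τ d * u⁻¹ ∈ τ.range → u * τ d * u⁻¹ = τ (act (wmat l) d) := by
      rw [show A = wmat l from hl] at hA'
      exact hA'
    have huc : u * τ c * u⁻¹ = τ c := by
      rw [Subgroup.mem_centralizer_singleton_iff.1 huX, mul_inv_cancel_right]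
    have hAc : act (wmat l) c = c ^ (1 : ℤ) := by
      rw [zpow_one]
      exact hτ ((hA c (huc.symm ▸ ⟨c, rfl⟩)).symm.trans huc)
    have hsq := stab_sq ((hact _ 1).1 hAc)
    have h2 : ∀ d : Fin 7 → Kˣ, d ^ 5 ^ 3 = 1 → u * (u * τ d * u⁻¹) * u⁻¹ = τ d := by
      intro d hd
      have h1 := hu _ ⟨d, rfl⟩ ⟨3, by rw [← map_pow, hd, map_one]⟩
      rw [hA d h1]
      have h3 : u * τ (act (wmat l) d) * u⁻¹ ∈ τ.range :=
        hu _ ⟨_, rfl⟩ ⟨3, by rw [← map_pow, ← map_pow, hd, map_one, map_one]⟩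
      exact (hA _ h3).trans (by
        show τ (act (wmat l) (act (wmat l) d)) = τ d
        rw [← ChevOrder.act_mul, hsq, ChevOrder.act_one])
    have hu2 : u ^ 2 ∈ τ.range := by
      have hcom : (u ^ 2 : ↥(D7.group K)) * τ creg = τ creg * u ^ 2 := by
        rw [← mul_inv_eq_iff_eq_mul]
        refine Eq.trans ?_ (h2 creg hcreg)
        rw [pow_two]
        group
      exact mem_range_of_comm_rho hD ((ζ ^ (13 : ℤ)))
        (fun n => by
          rw [← zpow_mul, hdvd, show (1625 : ℤ) = 13 * 125 by norm_num,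
            mul_dvd_mul_iff_left (by norm_num : (13 : ℤ) ≠ 0)]) hcom
    have hodd : (5 ^ j) % 2 = 1 := by rw [Nat.pow_mod]; norm_num
    have e : u = (u ^ 2) ^ ((5 ^ j + 1) / 2) := by
      rw [← pow_mul, show 2 * ((5 ^ j + 1) / 2) = 5 ^ j + 1 by omega, pow_succ, hj, one_mul]
    rw [e]
    exact pow_mem hu2 _
  obtain ⟨h₂, hh₂X, hh₂⟩ := exists_conj_abelian 5 hTX
    (by rintro _ ⟨a, rfl⟩ _ ⟨b, rfl⟩; rw [← map_mul, ← map_mul, mul_comm]) hN (pow_mem hzX 13) ⟨1, hz13⟩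
  -- the element of order 65 in the torus
  set w := h₂ * z * h₂⁻¹ with hw
  have hw5 : w ^ 5 = τ (c ^ k) := by
    rw [hw, conj_pow, hz5, map_zpow, mul_inv_eq_iff_eq_mul]
    exact (Commute.zpow_right (Subgroup.mem_centralizer_singleton_iff.1 hh₂X) k)
  have hwT : w ∈ τ.range := by
    have e : w = (w ^ 5) ^ (-5 : ℤ) * (w ^ 13) ^ (2 : ℤ) := by
      rw [← zpow_natCast w 5, ← zpow_natCast w 13, ← zpow_mul, ← zpow_mul, ← zpow_add]
      norm_num
    rw [e]
    refine mul_mem (zpow_mem (MonoidHom.mem_range.2 ⟨_, hw5.symm⟩) _) (zpow_mem ?_ _)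
    rw [hw, conj_pow]
    exact hh₂
  obtain ⟨cw, hcw⟩ := hwT
  have hwx : w ^ 13 = 1 → False := fun h13 => by
    have h1 : x' ^ 13 = 1 := by
      apply hκ
      rw [map_one, map_pow]
      rw [hw, conj_pow, hz] at h13
      have h14 := conj_eq_one_iff.1 h13
      rw [show gK⁻¹ * κ x' * gK = gK⁻¹ * κ x' * gK⁻¹⁻¹ by rw [inv_inv], conj_pow] at h14
      exact conj_eq_one_iff.1 h14
    rw [hx', conj_pow] at h1
    have := Nat.le_of_dvd (by norm_num) (orderOf_dvd_of_pow_eq_one (conj_eq_one_iff.1 h1))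
    omega
  have hcw65 : cw ^ 65 = 1 := by
    apply hτ
    rw [map_pow, map_one, hcw, hw, conj_pow, show z ^ 65 = (z ^ 13) ^ 5 ^ 1 by rw [← pow_mul]; norm_num, hz13,
      mul_one, mul_inv_cancel]
  have hcwc : cw ^ ((5 : ℤ) * m) = c := by
    apply hτ
    rw [map_zpow, hcw, zpow_mul, show w ^ (5 : ℤ) = w ^ 5 from zpow_natCast w 5, hw5, map_zpow, ← hzc, hτc]
  -- the Frobenius map
  let φ : K →+* K := frobenius K 2
  let Φ : ↥(D7.group K) →* ↥(D7.group K) :=
    ((mapG D7 φ).comp (D7.group K).subtype).codRestrict _ fun w => mapG_group_le hD φ ⟨w.1, w.2, rfl⟩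
  have hΦκ : ∀ w, Φ (κ w) = κ w := fun w => Subtype.ext (by
    show mapG D7 φ (mapG D7 f w.1) = mapG D7 f w.1
    rw [mapG_comp, show φ.comp f = f from Subsingleton.elim _ _])
  have hΦτ : ∀ d, Φ (τ d) = τ (d ^ (2 : ℤ)) := fun d => Subtype.ext (by
    show mapG D7 φ (tHom K d) = tHom K (d ^ (2 : ℤ))
    rw [mapG_tHom hD]
    exact congrArg _ (funext fun i => Units.ext (by simp [φ, frobenius_def])))
  set h := h₂ * gK⁻¹ with hh
  have hwh : w = h * κ x' * h⁻¹ := by rw [hw, hz, hh]; group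
  have hfus : Φ h * h⁻¹ * w * (Φ h * h⁻¹)⁻¹ = τ (cw ^ (2 : ℤ)) := by
    have e : Φ (h * κ x' * h⁻¹) = Φ h * κ x' * (Φ h)⁻¹ := by rw [map_mul Φ, map_mul Φ, map_inv Φ, hΦκ]
    rw [← hΦτ, hcw, hwh, e]
    group
  obtain ⟨A, ⟨l, hl⟩, hA'⟩ := fusion_chev hD rootsE7 K (Φ h * h⁻¹)
  have hA : ∀ d, Φ h * h⁻¹ * τ d * (Φ h * h⁻¹)⁻¹ ∈ τ.range →
      Φ h * h⁻¹ * τ d * (Φ h * h⁻¹)⁻¹ = τ (act (wmat l) d) := by
    rw [show A = wmat l from hl] at hA'
    exact hA'
  have hAw : act (wmat l) cw = cw ^ (2 : ℤ) := by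
    apply hτ
    rw [← hcw] at hfus
    exact (hA cw (hfus.symm ▸ ⟨_, rfl⟩)).symm.trans hfus
  have hAc : act (wmat l) c = c ^ (2 : ℤ) := by
    rw [← hcwc, map_zpow, hAw, zpow_comm]
  obtain ⟨B, Y, hBY⟩ := dbl_unit ((hact _ 2).1 hAc)
  have hAd : act (wmat l - (2 : ℤ) • 1) (cw ^ 13) = 1 := by
    have h1 := ToralSection.act_add (wmat l - (2 : ℤ) • 1) ((2 : ℤ) • 1) (cw ^ 13)
    rw [sub_add_cancel, ToralSection.act_smul, ChevOrder.act_one, map_pow, hAw] at h1
    refine mul_eq_right.1 (h1.symm.trans ?_)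
    simp only [← zpow_natCast, ← zpow_mul]
    rw [mul_comm]
  have hone : cw ^ 13 = 1 := by
    have h1 := congrArg (fun M => act M (cw ^ 13)) hBY
    simp only [ChevOrder.act_mul, hAd, map_one, ToralSection.act_add, ChevOrder.act_one, ToralSection.act_smul] at h1
    rw [show (act Y (cw ^ 13)) ^ (5 : ℤ) = 1 by
      rw [← map_zpow, show (cw ^ 13) ^ (5 : ℤ) = cw ^ 65 by
        rw [← zpow_natCast, ← zpow_mul, ← zpow_natCast]; norm_num, hcw65, map_one], mul_one] at h1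
    exact h1.symm
  exact hwx (by rw [← hcw, ← map_pow, hone, map_one])

end Cfsg.Agent.ESevenSixtyFive
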