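import Cfsg.Agent.Lib.ToralSection.Chev
import Cfsg.Agent.Lib.ChevBN.RootTables
import Cfsg.Agent.Lib.Chev.All

/-!
# Words in the Weyl group of type E7 fixing a coweight modulo a number

`cand`, `ext`: the possible columns of such a word, found by extending partial isometries of the coroot lattice.
`mem_ext`: every word fixing (or scaling) the coweight is in the list.
`stab_sq`, `dbl_unit`, `word_trivial`: what the three lists that are used say.
-/

set_option autoImplicit false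
set_option maxRecDepth 100000

namespace Cfsg.Agent.ESevenSixtyFive

open Cfsg.Lie Cfsg.Agent.ChevLang Cfsg.Agent.ToralSection Cfsg.Agent.ChevBN
open scoped Matrix

abbrev D7 : ChevalleyDatum := chevE7

/-- The Cartan matrix. -/
def cartL : List (List ℤ) := [[2, 0, -1, 0, 0, 0, 0], [0, 2, 0, -1, 0, 0, 0], [-1, 0, 2, -1, 0, 0, 0],
  [0, -1, -1, 2, -1, 0, 0], [0, 0, 0, -1, 2, -1, 0], [0, 0, 0, 0, -1, 2, -1], [0, 0, 0, 0, 0, -1, 2]]

/-- The Cartan matrix, as a matrix. -/
def cartM : Matrix (Fin 7) (Fin 7) ℤ := Matrix.of fun i j => (cartL.getD i.val []).getD j.val 0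

/-- The coroots. -/
def rootL : List (List ℤ) :=
  (List.range 126).map fun r => (List.range 7).map fun j => (chevE7.coroot.getD r #[]).getD j 0

/-- A bilinear product. -/
def dotL (a b : List ℤ) : ℤ := ((List.range 7).map fun j => a.getD j 0 * b.getD j 0).sum

/-- The Cartan matrix on a list. -/
def cartV (v : List ℤ) : List ℤ :=
  (List.range 7).map fun i => ((List.range 7).map fun j => (cartL.getD i []).getD j 0 * v.getD j 0).sum

/-- The candidates for a column. -/
def cand (k m : ℤ) (cv : List ℤ) (i : ℕ) : List (List ℤ) :=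
  rootL.filter fun r => (k * dotL r cv - cv.getD i 0) % m == 0

/-- The partial isometries with columns among the candidates. -/
def ext (k m : ℤ) (cv : List ℤ) : ℕ → List (List (List ℤ))
  | 0 => [[]]
  | i + 1 => (ext k m cv i).flatMap fun cols => ((cand k m cv i).filter fun r =>
      (List.range i).all fun j => dotL (cols.getD j []) (cartV r) == (cartL.getD j []).getD i 0).map
        fun r => cols ++ [r]

/-- The coweight of an element of order 13. -/
def vThirteen : List ℤ := [12, 1, 5, 8, 5, 6, 0]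

/-- Twice the half sum of the positive coroots. -/
def uRho : List ℤ := [34, 49, 66, 96, 75, 52, 27]

/-- Inverses modulo 5 of `A - 2` for the words `A` doubling `vThirteen` modulo 13. -/
def invs : List (List (List ℤ)) := [
  [[2, 2, 1, 2, 4, 0, 2], [4, 2, 0, 4, 2, 2, 4], [0, 3, 0, 3, 3, 4, 4], [0, 1, 4, 3, 0, 2, 2], [0, 3, 1, 3, 2, 4, 4], [2, 1, 4, 1, 0, 3, 4], [3, 0, 3, 0, 4, 3, 1]],
  [[4, 2, 4, 2, 4, 2, 1], [4, 2, 0, 4, 2, 2, 4], [3, 3, 2, 3, 3, 2, 0], [0, 1, 4, 3, 0, 2, 2], [2, 3, 4, 3, 2, 1, 3], [1, 1, 0, 1, 0, 2, 2], [3, 0, 3, 0, 4, 3, 1]],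
  [[0, 2, 4, 2, 3, 3, 0], [1, 2, 2, 4, 3, 4, 1], [4, 3, 4, 3, 0, 3, 3], [4, 1, 3, 3, 2, 1, 1], [2, 3, 3, 3, 3, 1, 1], [0, 1, 2, 1, 4, 1, 2], [0, 0, 0, 0, 0, 0, 3]],
  [[4, 2, 1, 2, 2, 2, 0], [4, 2, 1, 4, 1, 2, 1], [3, 3, 1, 3, 4, 2, 3], [0, 1, 1, 3, 3, 2, 1], [2, 3, 3, 3, 3, 1, 1], [1, 1, 0, 1, 0, 2, 2], [3, 0, 4, 0, 3, 3, 3]],
  [[0, 2, 1, 2, 1, 3, 1], [0, 2, 0, 4, 1, 3, 2], [0, 3, 0, 3, 3, 4, 4], [2, 1, 4, 3, 3, 4, 3], [3, 3, 1, 3, 4, 2, 3], [2, 1, 4, 1, 0, 3, 4], [4, 0, 3, 0, 3, 4, 4]],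
  [[4, 2, 4, 2, 4, 2, 1], [1, 2, 2, 4, 3, 4, 2], [4, 3, 3, 3, 1, 3, 4], [4, 1, 3, 3, 2, 1, 3], [2, 3, 4, 3, 2, 1, 3], [4, 1, 3, 1, 4, 0, 4], [0, 0, 0, 0, 0, 0, 4]],
  [[0, 2, 4, 2, 3, 3, 0], [0, 2, 0, 4, 1, 3, 2], [0, 3, 1, 3, 2, 4, 2], [2, 1, 4, 3, 3, 4, 3], [3, 3, 0, 3, 0, 2, 0], [2, 1, 1, 1, 3, 3, 0], [4, 0, 3, 0, 3, 4, 4]],
  [[3, 2, 1, 2, 3, 1, 3], [4, 2, 1, 4, 1, 2, 1], [0, 3, 1, 3, 2, 4, 2], [0, 1, 1, 3, 3, 2, 1], [0, 3, 3, 3, 0, 4, 2], [3, 1, 0, 1, 3, 4, 1], [3, 0, 4, 0, 3, 3, 3]]]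

theorem cart_ok : ∀ j k : Fin 7, D7.cartan j.val (D7.simple k.val) = (cartL.getD j.val []).getD k.val 0 := by
  decide +kernel

/-- A fundamental reflection as a matrix. -/
def refl (k : Fin 7) : Matrix (Fin 7) (Fin 7) ℤ :=
  Matrix.of fun i m => (if i = m then 1 else 0) - if i = k then (cartL.getD m.val []).getD k.val 0 else 0

theorem refl_form : ∀ k : Fin 7, (refl k)ᵀ * cartM * refl k = cartM := by decide +kernel

theorem stepV_getD (k : Fin 7) (v : List ℤ) (i : Fin 7) :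
    (stepV D7 k.val v).getD i.val 0 = ∑ m : Fin 7, refl k i m * v.getD m.val 0 := by
  have hr : D7.rank = 7 := rfl
  rw [stepV, hr, List.getD_eq_getElem _ _ (by simp), List.getElem_map, List.getElem_range,
    ← List.sum_toFinset _ List.nodup_range, List.toFinset_range, Finset.sum_range]
  simp only [refl, Matrix.of_apply, sub_mul, Finset.sum_sub_distrib, ite_mul, one_mul, zero_mul, Fin.val_inj]
  rw [Finset.sum_ite_eq, if_pos (Finset.mem_univ i)]
  congr 1
  split_ifs
  · exact Finset.sum_congr rfl fun m _ => by rw [cart_ok]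
  · simp

/-- The matrix of a word. -/
def wmat (l : List (Fin 7)) : Matrix (Fin 7) (Fin 7) ℤ := matOf 7 (colsOf D7 l)

theorem wmat_apply (l : List (Fin 7)) (j i : Fin 7) : wmat l j i = (colV D7 l i.val).getD j.val 0 := by
  have hc : colsOf D7 l = (List.range 7).map (colV D7 l) := rfl
  have hg : ((List.range 7).map (colV D7 l)).getD i.val [] = colV D7 l i.val := by
    rw [List.getD_eq_getElem _ _ (by simp), List.getElem_map, List.getElem_range]
  rw [wmat, matOf, Matrix.of_apply, hc, hg]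

theorem wmat_nil : wmat [] = 1 := by decide +kernel

theorem wmat_cons (k : Fin 7) (l : List (Fin 7)) : wmat (k :: l) = refl k * wmat l := by
  ext j i
  rw [wmat_apply, Matrix.mul_apply]
  simp only [wmat_apply]
  exact stepV_getD k (colV D7 l i.val) j

theorem wmat_form (l : List (Fin 7)) : (wmat l)ᵀ * cartM * wmat l = cartM := by
  induction l with
  | nil => simp [wmat_nil]
  | cons k l ih =>
    rw [wmat_cons, Matrix.transpose_mul,
      show (wmat l)ᵀ * (refl k)ᵀ * cartM * (refl k * wmat l) = (wmat l)ᵀ * ((refl k)ᵀ * cartM * refl k) * wmat l by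
        simp only [Matrix.mul_assoc], refl_form, ih]

theorem root_step : ∀ k : Fin 7, ∀ v ∈ rootL, stepV D7 k.val v ∈ rootL := by decide +kernel

theorem root_simple : ∀ i : Fin 7, colV D7 [] i.val ∈ rootL := by decide +kernel

theorem colV_mem (l : List (Fin 7)) (i : Fin 7) : colV D7 l i.val ∈ rootL := by
  induction l with
  | nil => exact root_simple i
  | cons k l ih => exact root_step k _ ih

theorem sum_range_seven (f : ℕ → ℤ) : ((List.range 7).map f).sum = ∑ j : Fin 7, f j.val := by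
  rw [← List.sum_toFinset _ List.nodup_range, List.toFinset_range, Finset.sum_range]

theorem cartV_getD (v : List ℤ) (i : Fin 7) :
    (cartV v).getD i.val 0 = (cartM *ᵥ fun j => v.getD j.val 0) i := by
  rw [cartV, List.getD_eq_getElem _ _ (by simp), List.getElem_map, List.getElem_range, sum_range_seven]
  rfl

theorem form_apply (l : List (Fin 7)) (j i : Fin 7) :
    dotL (colV D7 l j.val) (cartV (colV D7 l i.val)) = (cartL.getD j.val []).getD i.val 0 := by
  have h : (cartL.getD j.val []).getD i.val 0 = ((wmat l)ᵀ * cartM * wmat l) j i := by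
    rw [wmat_form]; rfl
  rw [h, Matrix.mul_assoc, Matrix.mul_apply, dotL, sum_range_seven]
  refine Finset.sum_congr rfl fun a _ => ?_
  rw [cartV_getD, Matrix.transpose_apply, wmat_apply, Matrix.mul_apply]
  simp only [Matrix.mulVec, dotProduct, wmat_apply]

/-- The coefficients of a list. -/
def vec (v : List ℤ) : Fin 7 → ℤ := fun j => v.getD j.val 0

/-- A word scaling the coweight `v` by `k` modulo `m` is in the list. -/
theorem mem_ext (l : List (Fin 7)) (v : List ℤ) (k m : ℤ)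
    (h : ∀ i, m ∣ (cartM *ᵥ (wmat l *ᵥ vec v - k • vec v)) i) :
    colsOf D7 l ∈ ext k m (cartV v) 7 := by
  have hcand : ∀ i : Fin 7, colV D7 l i.val ∈ cand k m (cartV v) i.val := by
    intro i
    refine List.mem_filter.2 ⟨colV_mem l i, beq_iff_eq.2 (Int.emod_eq_zero_of_dvd ?_)⟩
    have e : (wmat l)ᵀ *ᵥ (cartM *ᵥ (wmat l *ᵥ vec v - k • vec v)) =
        cartM *ᵥ vec v - k • ((wmat l)ᵀ *ᵥ (cartM *ᵥ vec v)) := by
      rw [Matrix.mulVec_sub, Matrix.mulVec_sub, Matrix.mulVec_smul, Matrix.mulVec_smul]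
      congr 1
      rw [Matrix.mulVec_mulVec, Matrix.mulVec_mulVec, wmat_form]
    have hd : m ∣ ((wmat l)ᵀ *ᵥ (cartM *ᵥ (wmat l *ᵥ vec v - k • vec v))) i :=
      show m ∣ ∑ j, (wmat l)ᵀ i j * _ from Finset.dvd_sum fun j _ => dvd_mul_of_dvd_right (h j) _
    rw [e] at hd
    have e2 : dotL (colV D7 l i.val) (cartV v) = ((wmat l)ᵀ *ᵥ (cartM *ᵥ vec v)) i := by
      rw [dotL, sum_range_seven]
      show _ = ∑ a, (wmat l)ᵀ i a * _
      refine Finset.sum_congr rfl fun a _ => ?_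
      rw [cartV_getD, Matrix.transpose_apply, wmat_apply]
      rfl
    rw [e2, cartV_getD]
    have h2 := dvd_neg.2 hd
    rw [Pi.sub_apply, Pi.smul_apply, smul_eq_mul, neg_sub] at h2
    exact h2
  have key : ∀ n ≤ 7, (List.range n).map (colV D7 l) ∈ ext k m (cartV v) n := by
    intro n
    induction n with
    | zero => intro _; simp [ext]
    | succ n ih =>
      intro hn
      rw [ext, List.mem_flatMap]
      refine ⟨_, ih (by omega), List.mem_map.2 ⟨colV D7 l n, List.mem_filter.2 ⟨hcand ⟨n, hn⟩, ?_⟩, ?_⟩⟩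
      · rw [List.all_eq_true]
        intro j hj
        rw [List.mem_range] at hj
        rw [beq_iff_eq, List.getD_eq_getElem _ _ (by simpa using hj), List.getElem_map, List.getElem_range]
        exact form_apply l ⟨j, by omega⟩ ⟨n, hn⟩
      · rw [List.range_succ, List.map_append, List.map_cons, List.map_nil]
  exact key 7 le_rfl

theorem stab_list : ∀ L ∈ ext 1 13 (cartV vThirteen) 7, matOf 7 L * matOf 7 L = 1 := by decide +kernel

theorem dbl_list : ∀ L ∈ ext 2 13 (cartV vThirteen) 7, ∃ B ∈ invs, ∀ i j : Fin 7,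
    (matOf 7 (List.map (fun i => (List.range 7).map fun j => (B.getD j []).getD i 0) (List.range 7)) *
      (matOf 7 L - (2 : ℤ) • 1) - 1 : Matrix (Fin 7) (Fin 7) ℤ) i j % 5 = 0 := by decide +kernel

theorem rho_list : ∀ L ∈ ext 1 125 (cartV uRho) 7, matOf 7 L = 1 := by decide +kernel

theorem dvd_of_congr {l : List (Fin 7)} {v : List ℤ} {k m : ℤ}
    (h : ∀ i, m ∣ (wmat l *ᵥ vec v - k • vec v) i) :
    ∀ i, m ∣ (cartM *ᵥ (wmat l *ᵥ vec v - k • vec v)) i :=
  fun i => show m ∣ ∑ j, cartM i j * _ from Finset.dvd_sum fun j _ => dvd_mul_of_dvd_right (h j) _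

/-- Words fixing the coweight of order 13 are involutions. -/
theorem stab_sq {l : List (Fin 7)} (h : ∀ i, (13 : ℤ) ∣ (wmat l *ᵥ vec vThirteen - (1 : ℤ) • vec vThirteen) i) :
    wmat l * wmat l = 1 :=
  stab_list _ (mem_ext l vThirteen 1 13 (dvd_of_congr h))

/-- Words doubling the coweight of order 13 have no eigenvalue 2 modulo 5. -/
theorem dbl_unit {l : List (Fin 7)} (h : ∀ i, (13 : ℤ) ∣ (wmat l *ᵥ vec vThirteen - (2 : ℤ) • vec vThirteen) i) :
    ∃ B Y : Matrix (Fin 7) (Fin 7) ℤ, B * (wmat l - (2 : ℤ) • 1) = 1 + (5 : ℤ) • Y := by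
  obtain ⟨B, -, hB⟩ := dbl_list _ (mem_ext l vThirteen 2 13 (dvd_of_congr h))
  set B' := matOf 7 (List.map (fun i => (List.range 7).map fun j => (B.getD j []).getD i 0) (List.range 7))
  refine ⟨B', Matrix.of fun i j => (B' * (wmat l - (2 : ℤ) • 1) - 1) i j / 5, ?_⟩
  rw [← sub_eq_iff_eq_add']
  refine Matrix.ext fun i j => ?_
  rw [Matrix.smul_apply, smul_eq_mul, Matrix.of_apply]
  exact (Int.mul_ediv_cancel' (Int.dvd_of_emod_eq_zero (hB i j))).symm

theorem root_rows : ∀ r s : Fin 126, (∀ i : Fin 7, D7.cartan i.val r.val = D7.cartan i.val s.val) → r = s := by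
  decide +kernel

/-- A word preserving the heights modulo 125 fixes all roots. -/
theorem word_trivial (hD : Chev.Good D7) (hR : ChevBN.Roots D7 ChevBN.adjE7 2) (l : List (Fin 7))
    (h : ∀ r < D7.nroots, (125 : ℤ) ∣ ∑ i : Fin 7, vec uRho i * D7.cartan i.val (wl D7 l r) -
      ∑ i : Fin 7, vec uRho i * D7.cartan i.val r) :
    ∀ r < D7.nroots, wl D7 l r = r := by
  have hA : ∀ (i : Fin 7) (r : ℕ), r < D7.nroots →
      ∑ j : Fin 7, wmat l j i * D7.cartan j.val (wl D7 l r) = D7.cartan i.val r := fun i r hr => by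
    simp only [wmat_apply]
    exact colV_spec hD hR l i hr
  have hC : ∀ i, (125 : ℤ) ∣ (cartM *ᵥ (wmat l *ᵥ vec uRho - (1 : ℤ) • vec uRho)) i := by
    intro i
    set R := chevRGD hD hR ℚ
    have hs : D7.simple i.val < D7.nroots := hD.simple_lt _ i.isLt
    obtain ⟨r, hr⟩ : ∃ r : Fin D7.nroots, R.ww l r = ⟨_, hs⟩ := ⟨_, R.ww_ww_reverse l ⟨_, hs⟩⟩
    have hr' : wl D7 l r.val = D7.simple i.val := (wl_eq hD hR (F := ℚ) l r).symm.trans (congrArg Fin.val hr)
    have h' := h r.val r.isLt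
    simp only [← hA _ r.val r.isLt, hr'] at h'
    have e : (cartM *ᵥ (wmat l *ᵥ vec uRho - (1 : ℤ) • vec uRho)) i =
        -(∑ a : Fin 7, vec uRho a * D7.cartan a.val (D7.simple i.val) -
          ∑ a : Fin 7, vec uRho a * ∑ j : Fin 7, wmat l j a * D7.cartan j.val (D7.simple i.val)) := by
      have hc : ∀ a b : Fin 7, D7.cartan a.val (D7.simple b.val) = cartM b a := by decide +kernel
      simp only [hc, Matrix.mulVec, dotProduct, Pi.sub_apply, one_smul, mul_sub, Finset.sum_sub_distrib,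
        Finset.mul_sum]
      rw [neg_sub, Finset.sum_comm]
      congr 1
      · exact Finset.sum_congr rfl fun a _ => Finset.sum_congr rfl fun j _ => by ring
      · exact Finset.sum_congr rfl fun a _ => by ring
    rw [e]
    exact dvd_neg.2 h'
  have h1 : wmat l = 1 := rho_list _ (mem_ext l uRho 1 125 hC)
  intro r hr
  have hlt : wl D7 l r < D7.nroots := wl_lt hD hR l hr
  have := root_rows ⟨_, hlt⟩ ⟨r, hr⟩ fun i => by
    have := hA i r hr
    rw [h1] at this
    simpa [Matrix.one_apply] using this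
  exact congrArg Fin.val this

end Cfsg.Agent.ESevenSixtyFive
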